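import Groth.Agent.AbvarAmple.HilbertIndex
import Groth.Agent.AbvarAmple.IndexExists
import Groth.Agent.S7813
import Groth.Agent.S1646
import Groth.Agent.Ega2Proj.AmpleBasic
import Groth.Agent.VarietyBC.GGen
import Groth.Agent.EulerDeg.Coherent

/-!
# Sections of ample modules on abelian varieties over any field
-/

set_option autoImplicit false
universe u

open CategoryTheory Limits MonoidalCategory CartesianMonoidalCategory MonObj GrpObj AlgebraicGeometry
open Groth.PropsBasic.Ample (gloc)

namespace Groth.AbVarTate.Bounded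

open Groth.Abvar Groth.Abvar.PicCalc Groth.AbvarAmple

variable {k : Type u} [Field k] {Y : Over (Spec (CommRingCat.of k))} [GrpObj Y]
  [IsProper Y.hom] [GeometricallyIntegral Y.hom]

theorem subsingleton_HH_ample {L : Y.left.Modules} (hL : CohB1.IsAmple L) {j : ℕ} (hj : 0 < j) :
    Subsingleton (Coh.HH Y.left L j) :=
  ((isIdx_cls_iff Y.hom hL.1 0).1 (isIdx_zero_of_isAmple hL)).1 j hj.ne'

theorem subsingleton_HH_gt {g : ℕ} (hg : topologicalKrullDim Y.left = g) (M : Y.left.Modules)
    {p : ℕ} (hp : g < p) : Subsingleton (Coh.HH Y.left M p) := by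
  have : IsLocallyNoetherian Y.left := LocallyOfFiniteType.isLocallyNoetherian Y.hom
  have : CompactSpace Y.left := CohFin.compactSpace_of_proper Y.hom
  have : IsNoetherian Y.left := {}
  have : TopologicalSpace.NoetherianSpace Y.left.toTopCat :=
    inferInstanceAs (TopologicalSpace.NoetherianSpace Y.left)
  exact Inter.Vanishing.subsingleton_H_of_dim_le (X := Y.left.toTopCat) hg.le _ p hp

/-- The Euler characteristic of an ample module is the number of its sections. -/
theorem euler_ample {L : Y.left.Modules} (hL : CohB1.IsAmple L) :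
    @Curv2.euler k _ Y.left ⟨Y.hom⟩ L =
      (Module.finrank k (CohFin.HA Y.hom L 0) : ℤ) := by
  letI : Y.left.Over (Spec (CommRingCat.of k)) := ⟨Y.hom⟩
  refine (EulerDeg.euler_eq_sum (k := k) (N := 1) fun q hq => subsingleton_HH_ample hL hq).trans ?_
  simp
  rfl

set_option backward.isDefEq.respectTransparency false in
/-- The square of an ample module is generated by sections. -/
theorem gg_square {L : Y.left.Modules} (hL : CohB1.IsAmple L) :
    Curv2.IsGloballyGenerated (CohB1.tensorMod L L) := by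
  let K := AlgebraicClosure k
  let t : Spec (CommRingCat.of K) ⟶ Spec (CommRingCat.of k) :=
    Spec.map (CommRingCat.ofHom (algebraMap k K))
  let F := Over.pullback t
  let : GrpObj (F.obj Y) := Functor.grpObjObj
  have : IsProper (F.obj Y).hom := inferInstanceAs (IsProper (Limits.pullback.snd Y.hom _))
  have : GeometricallyIntegral (F.obj Y).hom :=
    inferInstanceAs (GeometricallyIntegral (Limits.pullback.snd Y.hom _))
  let p : (F.obj Y).left ⟶ Y.left := Limits.pullback.fst Y.hom t
  have : IsAffineHom p := MorphismProperty.pullback_fst _ _ inferInstance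
  have hK : CohB1.IsAmple ((Scheme.Modules.pullback p).obj L) :=
    Groth.Chow.isAmple_pullback_of_isAffineHom _ hL
  have := Groth.Abvar.isIntegral_left (F.obj Y)
  have := nontrivial_HH_zero_of_isAmple hK
  obtain ⟨z, hz⟩ := exists_ne (0 : Coh.HH (F.obj Y).left ((Scheme.Modules.pullback p).obj L) 0)
  let e : Coh.HH (F.obj Y).left ((Scheme.Modules.pullback p).obj L) 0 ≃+
      Γ((Scheme.Modules.pullback p).obj L, ⊤) :=
    CohFin.equivSections (F.obj Y).hom _
  have hs : e z ≠ 0 := fun h => hz (e.map_eq_zero_iff.1 h)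
  have hgg := Groth.Agent.S7813.isGloballyGenerated_square (F.obj Y) _ hK.1
    (PicAux.homOfSection (e z)) (Groth.Abvar.Seesaw.genLocus_nonempty hK.1 hs)
  have hq : Coh.IsQCoh (CohB1.tensorMod L L) :=
    (Groth.VarietyBC.CurveGG.isCoh_of_isInvertible (isInvertible_tensorMod hL.1 hL.1)).1
  refine (Groth.Agent.S1646.result k K Y.left Y.hom _ hq).2 ?_
  obtain ⟨J, q, hq⟩ := hgg
  obtain ⟨i⟩ := Groth.PicAux.pullback_tensorMod p hL.1 (M := L) hL.1
  exact ⟨J, q ≫ i.inv, epi_comp _ _⟩

/-- Finitely many sections generate the square of an ample module. -/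
theorem exists_cover_square {L : Y.left.Modules} (hL : CohB1.IsAmple L) :
    ∃ (r : ℕ) (σ : ℕ → Γ(CohB1.tensorMod L L, (⊤ : Y.left.Opens))),
      ∀ x : Y.left, ∃ i < r, x ∈ gloc (σ i) := by
  classical
  have : CompactSpace Y.left := hL.2.1
  choose t ht using fun x : Y.left =>
    Groth.VarietyBC.GGen.exists_mem_gloc (isInvertible_tensorMod hL.1 hL.1) (gg_square hL) x
  obtain ⟨s, hs⟩ := isCompact_univ.elim_finite_subcover (fun x : Y.left => (gloc (t x) : Set Y.left))
    (fun x => (gloc (t x)).2) fun x _ => Set.mem_iUnion.2 ⟨x, ht x⟩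
  refine ⟨s.card, fun i => if h : i < s.card then t (s.equivFin.symm ⟨i, h⟩) else 0, fun x => ?_⟩
  obtain ⟨y, hy, hxy⟩ := Set.mem_iUnion₂.1 (hs (Set.mem_univ x))
  refine ⟨s.equivFin ⟨y, hy⟩, (s.equivFin ⟨y, hy⟩).2, ?_⟩
  dsimp only
  rw [dif_pos (s.equivFin ⟨y, hy⟩).2, Fin.eta, Equiv.symm_apply_apply]
  exact hxy

end Groth.AbVarTate.Bounded
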