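import Groth.Agent.FibreVA.NormalGen

/-!
# Embeddings into projective space of a prescribed dimension by spanning sections
-/

universe u

open CategoryTheory CategoryTheory.Limits AlgebraicGeometry Opposite TopologicalSpace

set_option backward.isDefEq.respectTransparency.types false

noncomputable section

namespace Groth.AbVarTate.Bounded

open Groth.PicAux Groth.PropsBasic.Ample Groth.RelVA Groth.RelTw Groth.FibreVA.NormalGen

/-- Data give an immersion into projective space. -/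
theorem exists_immersion_of_data {X Y : Scheme.{u}} {q : X ⟶ Y} [IsAffine Y] {L : X.Modules} {m : ℕ}
    (s : Fin (m + 1) → Γ(L, ⊤)) (hdat : ∀ x, ∃ j, x ∈ gloc (s j) ∧ Imm (gloc (s j)) (ratioRing q s j)) :
    ∃ i : X ⟶ CohB1.ProjSpaceOver m Y, IsImmersion i ∧ i ≫ CohB1.ProjSpaceOver.toBase m Y = q ∧
      Nonempty (L ≅ (Scheme.Modules.pullback i).obj (Twist.twistOver m Y 1)) := by
  choose idx hidx hI using hdat
  have hcov : ∀ x, ∃ j, x ∈ gloc (s j) := fun x => ⟨idx x, hidx x⟩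
  let q₀ : X ⟶ Spec (CommRingCat.of (ULift.{u} ℤ)) := specULiftZIsTerminal.from X
  have hUeq : ∀ j, Groth.Chow.ToPn.U L s j = gloc (s j) := fun _ => rfl
  have hU : ⨆ j, Groth.Chow.ToPn.U L s j = ⊤ := top_le_iff.mp fun x _ => by
    obtain ⟨j, hj⟩ := hcov x
    exact Opens.mem_iSup.mpr ⟨j, hj⟩
  obtain ⟨r, hr⟩ := Groth.Chow.ToPn.exists_r q₀ L s hU
  obtain ⟨τ, -⟩ := Groth.Chow.ToPn.exists_tau hr hU
  let i : X ⟶ CohB1.ProjSpaceOver m Y := pullback.lift r q (specULiftZIsTerminal.hom_ext _ _)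
  have hi1 : i ≫ Groth.Chow.PEmb.prZ m Y = r := pullback.lift_fst _ _ _
  have hi2 : i ≫ CohB1.ProjSpaceOver.toBase m Y = q := pullback.lift_snd _ _ _
  refine ⟨i, ?_, hi2, ⟨τ.symm ≪≫ ((Scheme.Modules.pullbackComp i (Groth.Chow.PEmb.prZ m Y)).app _ ≪≫
    (Scheme.Modules.pullbackCongr hi1).app _).symm⟩⟩
  let V : Fin (m + 1) → (CohB1.ProjSpaceOver m Y).Opens := fun j =>
    Groth.Chow.PEmb.prZ m Y ⁻¹ᵁ Proj.basicOpen (CohB1.polyGrading m (ULift.{u} ℤ)) (MvPolynomial.X j) ⊓
      CohB1.ProjSpaceOver.toBase m Y ⁻¹ᵁ ⊤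
  have hpre : ∀ j, i ⁻¹ᵁ V j = gloc (s j) := fun j => by
    rw [Scheme.Hom.preimage_inf, ← Scheme.Hom.comp_preimage, ← Scheme.Hom.comp_preimage, hi1, hi2]
    exact (congrArg (· ⊓ q ⁻¹ᵁ ⊤) (Groth.Chow.ToPn.preimage_D hr hU j)).trans (inf_eq_left.2 le_top)
  have hV : ∀ x, IsImmersion (i ∣_ V (idx x)) := fun x => by
    generalize hj : idx x = j
    have hIj : Imm (gloc (s j)) (ratioRing q s j) := hj ▸ hI x
    have hVa : IsAffineOpen (V j) := Groth.Chow.isAffineOpen_prZ_inf m j (isAffineOpen_top Y)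
    have : IsAffine (V j : Scheme.{u}) := hVa
    obtain ⟨K, hK, k, hk, hkT⟩ := hIj
    let G := gloc (s j)
    have hle : G ≤ i ⁻¹ᵁ V j := (hpre j).ge
    let rl := i.resLE (V j) G hle
    have hrange : ratioRing q s j ≤ (i.appLE (V j) G hle).hom.range := by
      refine Subring.closure_le.2 ?_
      rintro g (⟨b, rfl⟩ | ⟨l, hl⟩)
      · refine ⟨(CohB1.ProjSpaceOver.toBase m Y).appLE ⊤ (V j) inf_le_right b, ?_⟩
        rw [← CommRingCat.comp_apply, Scheme.Hom.appLE_comp_appLE]
        have e : ∀ (f f' : X ⟶ Y) (_ : f = f') h h', f.appLE ⊤ G h b = f'.appLE ⊤ G h' b := by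
          rintro f _ rfl h h'; rfl
        exact e _ _ hi2 _ _
      · have hg : g = Groth.Chow.ToPn.c L s j l := by
          refine (Groth.Chow.ToPn.gen_U L s j).smul_inj le_rfl ?_
          rw [PicAux.res_self]
          exact hl.symm.trans (Groth.Chow.ToPn.c_spec L s j l)
        let D : (CohB1.ProjSpace m (ULift.{u} ℤ)).Opens := Proj.basicOpen (CohB1.polyGrading m (ULift.{u} ℤ)) (MvPolynomial.X j)
        refine ⟨(Groth.Chow.PEmb.prZ m Y).appLE D (V j) inf_le_left (Proj.awayToSection _ _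
          (HomogeneousLocalization.Away.mk (CohB1.polyGrading m (ULift.{u} ℤ)) (Groth.Chow.ToPn.X_mem j) 1
            (MvPolynomial.X l) (by rw [one_smul]; exact Groth.Chow.ToPn.X_mem l))), ?_⟩
        rw [← CommRingCat.comp_apply, Scheme.Hom.appLE_comp_appLE]
        have e : ∀ (f f' : X ⟶ CohB1.ProjSpace m (ULift.{u} ℤ)) (_ : f = f') h h' b,
            f.appLE D G h b = f'.appLE D G h' b := by
          rintro f _ rfl h h' b; rfl
        refine (e _ _ hi1 _ ((Groth.Chow.ToPn.preimage_D hr hU j).ge) _).trans ?_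
        refine (Groth.Chow.ToPn.appLE_awayToSection hr j ((Groth.Chow.ToPn.preimage_D hr hU j).ge) _).trans ?_
        rw [hg, Groth.Chow.ToPn.α, Groth.Chow.ToPn.chart_mk, MvPolynomial.eval₂_X]
    have h1 : IsImmersion rl := by
      refine @isImmersion_of_range _ _ _ ‹_› hK rl k hk fun a => ?_
      obtain ⟨F, hF⟩ := hrange (hkT a)
      refine ⟨(V j).topIso.inv.hom F, ?_⟩
      refine (ConcreteCategory.bijective_of_isIso G.topIso.hom).1 ?_
      refine Eq.trans ?_ hF
      refine (kf_resLE i hle (𝟙 (V j : Scheme.{u})) ((V j).topIso.inv.hom F)).trans ?_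
      exact congrArg (i.appLE (V j) G hle).hom (congr(($((V j).topIso.inv_hom_id)).hom F))
    have e1 : i ∣_ V j = X.homOfLE (hpre j).le ≫ rl := by
      rw [← cancel_mono (V j).ι, morphismRestrict_ι, Category.assoc, Scheme.Hom.resLE_comp_ι,
        Scheme.homOfLE_ι_assoc]
    rw [e1]
    infer_instance
  let W : (CohB1.ProjSpaceOver m Y).Opens := ⨆ x, V (idx x)
  have hW : i ⁻¹ᵁ W = ⊤ := eq_top_iff.2 fun x _ => by
    exact Opens.mem_iSup.2 ⟨x, (hpre (idx x)).ge (hidx x)⟩
  have h2 : IsImmersion (i ∣_ W) := by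
    refine IsZariskiLocalAtTarget.of_iSup_eq_top (P := @IsImmersion) (fun x => W.ι ⁻¹ᵁ V (idx x))
      (eq_top_iff.2 fun w _ => ?_) fun j => ?_
    · obtain ⟨j, hj⟩ := Opens.mem_iSup.1 w.2
      exact Opens.mem_iSup.2 ⟨j, hj⟩
    · rw [MorphismProperty.arrow_mk_iso_iff (P := @IsImmersion) (morphismRestrictRestrict i W _),
        MorphismProperty.arrow_mk_iso_iff (P := @IsImmersion) (morphismRestrictEq i
          (show W.ι ''ᵁ W.ι ⁻¹ᵁ V (idx j) = V (idx j) by
            rw [Scheme.Hom.image_preimage_eq_opensRange_inf, Scheme.Opens.opensRange_ι, inf_eq_right]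
            exact le_iSup (fun x => V (idx x)) j))]
      exact hV j
  have h3 : IsImmersion ((i ⁻¹ᵁ W).ι ≫ i) := morphismRestrict_ι i W ▸ inferInstance
  have : IsIso (i ⁻¹ᵁ W).ι := by
    rw [hW]
    exact (Scheme.topIso X).isIso_hom
  have h4 : IsImmersion (inv (i ⁻¹ᵁ W).ι ≫ (i ⁻¹ᵁ W).ι ≫ i) := inferInstance
  simpa using h4


/-- A normally generated ample module is very ample over an affine Noetherian base. -/
theorem exists_data_of_span {R : Type u} [CommRing R] {X : Scheme.{u}} (f : X ⟶ Spec (CommRingCat.of R))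
    [IsProper f] {L : X.Modules} (hLa : CohB1.IsAmple L) (hng : IsNormGen L) {k : ℕ} (σ : Fin k → Γ(L, ⊤))
    (hσ : ∀ s : Γ(L, ⊤), ∃ r : Fin k → R, s = ∑ i, bfun f (r i) • σ i) :
    ∀ x, ∃ j, x ∈ gloc ((Fin.cons 0 σ : Fin (k + 1) → Γ(L, ⊤)) j) ∧
      Imm (gloc ((Fin.cons 0 σ : Fin (k + 1) → Γ(L, ⊤)) j)) (ratioRing f (Fin.cons 0 σ) j) := by
  classical
  have hL := hLa.1
  haveI : CompactSpace X := hLa.2.1
  haveI : QuasiSeparatedSpace X :=
    haveI := isSeparated_of_cover hL hLa.2.2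
    inferInstance
  intro x
  let t : Fin (k + 1) → Γ(L, ⊤) := Fin.cons 0 σ
  -- a spanning section generates at `x`
  obtain ⟨j, hj⟩ : ∃ j, x ∈ gloc (t j) := by
    obtain ⟨n, s, hxs, -⟩ := hLa.2.2 x
    by_contra hno
    push Not at hno
    obtain ⟨W, e, hW, hxW, he⟩ := exists_affine_gen_mem hL x
    choose a ha using fun j => he.exists_coeff le_rfl (res L (le_top : W ≤ ⊤) (t j))
    simp only [res_self] at ha
    let p := (X.presheaf.germ W x hxW).hom
    have hm : ∀ j, ¬ IsUnit (p (a j)) := fun j hu =>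
      hno j ((gloc_inf_eq_basicOpen he (ha j)).ge ((X.mem_basicOpen (a j) x hxW).2 hu)).1
    have key : ∀ n b, 1 ≤ n → ∀ c, res _ (le_top : W ≤ ⊤) b = c • powSec e n → ¬ IsUnit (p c) := by
      refine pow_induction hng _ (fun _ h => absurd h (by omega)) ?_ ?_ ?_ ?_
      · intro n _ c hc
        rw [PicAux.res_zero] at hc
        have : (0 : Γ(X, W)) = c := (he.pow n).smul_inj le_rfl (by rw [res_self, zero_smul]; exact hc)
        rw [← this, map_zero]
        exact not_isUnit_zero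
      · intro n a' b' hA hB hn c hc
        obtain ⟨cA, hcA⟩ := (he.pow n).exists_coeff le_rfl (res _ (le_top : W ≤ ⊤) a')
        obtain ⟨cB, hcB⟩ := (he.pow n).exists_coeff le_rfl (res _ (le_top : W ≤ ⊤) b')
        rw [res_self] at hcA hcB
        rw [PicAux.res_add, hcA, hcB, ← add_smul] at hc
        have : cA + cB = c := (he.pow n).smul_inj le_rfl (by rw [res_self]; exact hc)
        rw [← this, map_add]
        exact fun hu => (IsLocalRing.isUnit_or_isUnit_of_isUnit_add hu).elim (hA hn _ hcA) (hB hn _ hcB)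
      · intro n a' hA hn c hc
        refine fun hu => hA hn (-c) ?_ ((map_neg p c).symm ▸ hu.neg)
        rw [res_neg'] at hc
        rw [neg_smul, ← hc, neg_neg]
      · intro n m s _ _ c hc
        obtain ⟨cm, hcm⟩ := (he.pow n).exists_coeff le_rfl (res _ (le_top : W ≤ ⊤) m)
        rw [res_self] at hcm
        obtain ⟨r, rfl⟩ := hσ s
        have h1 : ∀ i, res L (le_top : W ≤ ⊤) (bfun f (r i) • σ i) =
            (resX X (le_top : W ≤ ⊤) (bfun f (r i)) * a i.succ) • e := fun i => by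
          rw [PicAux.res_smul, mul_smul]
          exact congrArg (_ • ·) (ha i.succ)
        erw [res_tmulSec] at hc
        rw [res_sum', Finset.sum_congr rfl fun i _ => h1 i, ← Finset.sum_smul,
          hcm, tmulSec_smul_left, tmulSec_smul_right, ← mul_smul] at hc
        have : cm * ∑ i, resX X (le_top : W ≤ ⊤) (bfun f (r i)) * a i.succ = c :=
          (he.pow (n + 1)).smul_inj le_rfl (by rw [res_self]; exact hc)
        rw [← this, map_mul, map_sum]
        intro hu
        have hmem : ∑ i, p (resX X (le_top : W ≤ ⊤) (bfun f (r i)) * a i.succ) ∈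
            IsLocalRing.maximalIdeal (X.presheaf.stalk x) := Ideal.sum_mem _ fun i _ => by
          rw [map_mul]
          exact Ideal.mul_mem_left _ _ ((IsLocalRing.mem_maximalIdeal _).2 (hm i.succ))
        exact (IsLocalRing.mem_maximalIdeal _).1 hmem (isUnit_of_mul_isUnit_right hu)
    obtain ⟨c, hc⟩ := (he.pow (n + 1)).exists_coeff le_rfl (res _ (le_top : W ≤ ⊤) (gsec s))
    rw [res_self] at hc
    refine key _ _ (Nat.le_add_left 1 n) c hc ((X.mem_basicOpen c x hxW).1 ?_)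
    exact (gloc_inf_eq_basicOpen (he.pow (n + 1)) hc).le ⟨(genLocus_eq_gloc s) ▸ hxs, hxW⟩
  refine ⟨j, hj, ?_⟩
  let G := gloc (t j)
  have hG : IsAffineOpen G := isAffineOpen_gloc_of_universallyClosed f hLa (t j)
  refine (imm_of_isAffineOpen hG).mono fun g _ => ?_
  change g ∈ ratioRing f t j
  have hgen : Gen L G (res L (le_top : G ≤ ⊤) (t j)) := gen_gloc (t j) le_rfl
  have hbase : ∀ r : R, resX X (le_top : G ≤ ⊤) (bfun f r) ∈ ratioRing f t j := fun r =>
    Subring.subset_closure (Or.inl ⟨(Scheme.ΓSpecIso (CommRingCat.of R)).inv r, by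
      rw [bfun, resX_resX]; rfl⟩)
  have hlin : ∀ (s : Γ(L, ⊤)) (c : Γ(X, G)),
      res L (le_top : G ≤ ⊤) s = c • res L (le_top : G ≤ ⊤) (t j) → c ∈ ratioRing f t j := by
    intro s c hc
    obtain ⟨r, rfl⟩ := hσ s
    choose b hb using fun i : Fin k => hgen.exists_coeff le_rfl (res L (le_top : G ≤ ⊤) (σ i))
    simp only [res_self] at hb
    have : ∑ i, resX X (le_top : G ≤ ⊤) (bfun f (r i)) * b i = c := by
      refine hgen.smul_inj le_rfl ?_
      rw [res_self, Finset.sum_smul, ← hc, res_sum']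
      exact Finset.sum_congr rfl fun i _ => by rw [mul_smul, ← hb, PicAux.res_smul]
    rw [← this]
    exact sum_mem fun i _ => mul_mem (hbase _) (Subring.subset_closure (Or.inr ⟨i.succ, hb i⟩))
  obtain ⟨m, b, hb⟩ := exists_extend hL (t j) g
  refine pow_induction hng (fun m b => ∀ g : Γ(X, G),
    res _ (le_top : G ≤ ⊤) b = g • powSec (res L (le_top : G ≤ ⊤) (t j)) m → g ∈ ratioRing f t j)
    ?_ ?_ ?_ ?_ ?_ m b g hb
  · intro b g hg
    refine hlin (toFun b • t j) g ?_
    rw [PicAux.res_smul]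
    congr 1
    have := congrArg toFun hg
    change resX X (le_top : G ≤ ⊤) (toFun b) = g * 1 at this
    rwa [mul_one] at this
  · intro n g hg
    rw [PicAux.res_zero] at hg
    rw [← (hgen.pow n).smul_inj le_rfl (r := 0) (r' := g) (by rw [res_self, zero_smul]; exact hg)]
    exact zero_mem _
  · intro n a b hA hB g hg
    obtain ⟨cA, hcA⟩ := (hgen.pow n).exists_coeff le_rfl (res _ (le_top : G ≤ ⊤) a)
    obtain ⟨cB, hcB⟩ := (hgen.pow n).exists_coeff le_rfl (res _ (le_top : G ≤ ⊤) b)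
    rw [res_self] at hcA hcB
    rw [PicAux.res_add, hcA, hcB, ← add_smul] at hg
    rw [← (hgen.pow n).smul_inj le_rfl (r := cA + cB) (r' := g) (by rw [res_self]; exact hg)]
    exact add_mem (hA _ hcA) (hB _ hcB)
  · intro n a hA g hg
    rw [res_neg'] at hg
    have := hA (-g) (by rw [neg_smul, ← hg, neg_neg])
    simpa using neg_mem this
  · intro n m s hm g hg
    obtain ⟨cm, hcm⟩ := (hgen.pow n).exists_coeff le_rfl (res _ (le_top : G ≤ ⊤) m)
    obtain ⟨cs, hcs⟩ := hgen.exists_coeff le_rfl (res L (le_top : G ≤ ⊤) s)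
    rw [res_self] at hcm hcs
    erw [res_tmulSec] at hg
    rw [hcm, hcs, tmulSec_smul_left, tmulSec_smul_right, ← mul_smul] at hg
    rw [← (hgen.pow (n + 1)).smul_inj le_rfl (r := cm * cs) (r' := g) (by rw [res_self]; exact hg)]
    exact mul_mem (hm _ hcm) (hlin s cs hcs)


end Groth.AbVarTate.Bounded
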