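import Groth.Agent.Limits.GGKoszul
import Groth.Agent.FibreVA.NormalGen

/-!
# Normal generation from vanishing of cohomology
-/

set_option autoImplicit false
universe u

open CategoryTheory CategoryTheory.Limits AlgebraicGeometry Opposite TopologicalSpace

namespace Groth.AbVarTate.Bounded

open Groth.PicAux Groth.PropsBasic.Ample Groth.Variety2.Reg Groth.LimKoszul

variable {X : Scheme.{u}}

theorem bijective_stalk_idTensor {A B B' : X.Modules} (hA : PicF.IsInvertible A) (φ : B ⟶ B') (x : X)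
    (h : Function.Bijective ((Groth.QCohMod.stalk x).map φ)) :
    Function.Bijective ((Groth.QCohMod.stalk x).map (KoszTw.tensorMap (𝟙 A) φ)) := by
  obtain ⟨U, e, hxU, he⟩ := (isInvertible_iff_exists_gen A).1 hA x
  obtain ⟨b, hb⟩ := exists_braiding B A
  obtain ⟨b', hb'⟩ := exists_braiding B' A
  -- sections of `A ⊗ B` over opens in `U` are sections of `B`
  have key : ∀ {C : X.Modules} (c : CohB1.tensorMod C A ≅ CohB1.tensorMod A C),
      (∀ W a s, c.hom.app W (tmulSec a s) = tmulSec s a) → ∀ (V : X.Opens) (hV : V ≤ U),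
      Function.Bijective fun y : Γ(C, V) => tmulSec (res A hV e) y := fun {C} c hc V hV => by
    have h1 : Function.Bijective (c.hom.app V) := ConcreteCategory.bijective_of_isIso _
    have h2 := h1.comp (Groth.Ega2Proj.tmulSec_bijective (M := C) hV he)
    convert h2 using 1
    exact funext fun y => (hc V y _).symm
  have happ : ∀ (V : X.Opens) (hV : V ≤ U) (y : Γ(B, V)),
      (KoszTw.tensorMap (𝟙 A) φ).app V (tmulSec (res A hV e) y) = tmulSec (res A hV e) (φ.app V y) :=
    fun V hV y => tensorMap_app_tmulSec (𝟙 A) φ V _ _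
  have gres : ∀ (C : X.Modules) {V W : X.Opens} (hVW : V ≤ W) (hxV : x ∈ V) (m : Γ(C, W)),
      C.presheaf.germ V x hxV (res C hVW m) = C.presheaf.germ W x (hVW hxV) m :=
    fun C V W hVW hxV m => Groth.QCohMod.germ_res C hVW x hxV m
  have smap : ∀ {C C' : X.Modules} (ψ : C ⟶ C') {V : X.Opens} (hxV : x ∈ V) (m : Γ(C, V)),
      (Groth.QCohMod.stalk x).map ψ (C.presheaf.germ V x hxV m) = C'.presheaf.germ V x hxV (ψ.app V m) :=
    fun ψ V hxV m => Groth.QCohMod.stalk_map_germ ψ x hxV m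
  have geq : ∀ (C : X.Modules) {V W : X.Opens} (hxV : x ∈ V) (hxW : x ∈ W) (m : Γ(C, V)) (m' : Γ(C, W)),
      C.presheaf.germ V x hxV m = C.presheaf.germ W x hxW m' →
      ∃ (O : X.Opens) (_ : x ∈ O) (h1 : O ≤ V) (h2 : O ≤ W), res C h1 m = res C h2 m' := by
    intro C V W hxV hxW m m' hm
    obtain ⟨O, hxO, e1, e2, heq⟩ := TopCat.Presheaf.germ_eq _ x hxV hxW m m' hm
    exact ⟨O, hxO, e1.le, e2.le, heq⟩
  constructor
  · rw [injective_iff_map_eq_zero]
    intro a ha
    obtain ⟨W, hxW, m, rfl⟩ := TopCat.Presheaf.exists_germ_eq (CohB1.tensorMod A B).presheaf a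
    have hx' : x ∈ W ⊓ U := ⟨hxW, hxU⟩
    obtain ⟨y, hy⟩ := (key b hb (W ⊓ U) inf_le_right).2 (res _ inf_le_left m)
    dsimp only at hy
    rw [← gres _ (inf_le_left : W ⊓ U ≤ W) hx' m, ← hy] at ha ⊢
    rw [smap, happ] at ha
    obtain ⟨V, hxV, h1, h2, heq⟩ := geq _ hx' hx' _ 0 (ha.trans (map_zero _).symm)
    rw [res_tmulSec, res_res, PicAux.res_zero, ← app_res φ h1] at heq
    have h5 : φ.app V (res B h1 y) = 0 :=
      (key b' hb' V (h1.trans inf_le_right)).1 (heq.trans (map_zero (tmulLin V (res A _ e))).symm)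
    have h6 : B.presheaf.germ (W ⊓ U) x hx' y = 0 := by
      refine ((injective_iff_map_eq_zero _).1 h.1) _ ?_
      rw [← gres B h1 hxV y, smap, h5]
      exact map_zero _
    obtain ⟨V', hxV', f1, f2, heq'⟩ := geq _ hx' hx' y 0 (h6.trans (map_zero _).symm)
    rw [PicAux.res_zero] at heq'
    rw [← gres _ f1 hxV', res_tmulSec, heq']
    exact (congrArg _ (map_zero (tmulLin V' _))).trans (map_zero _)
  · intro a
    obtain ⟨W, hxW, m, rfl⟩ := TopCat.Presheaf.exists_germ_eq (CohB1.tensorMod A B').presheaf a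
    have hx' : x ∈ W ⊓ U := ⟨hxW, hxU⟩
    obtain ⟨y, hy⟩ := (key b' hb' (W ⊓ U) inf_le_right).2 (res _ inf_le_left m)
    dsimp only at hy
    rw [← gres _ (inf_le_left : W ⊓ U ≤ W) hx' m, ← hy]
    obtain ⟨z, hz⟩ := h.2 (B'.presheaf.germ (W ⊓ U) x hx' y)
    obtain ⟨W', hxW', z, rfl⟩ := TopCat.Presheaf.exists_germ_eq B.presheaf z
    rw [smap] at hz
    obtain ⟨V, hxV, h1, h2, heq⟩ := geq _ hxW' hx' _ _ hz
    refine ⟨(CohB1.tensorMod A B).presheaf.germ V x hxV
      (tmulSec (res A (h2.trans inf_le_right) e) (res B h1 z)), ?_⟩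
    rw [smap, happ, app_res φ h1, heq, ← gres (CohB1.tensorMod A B') h2 hxV, res_tmulSec, res_res]

variable {L N : X.Modules} (e : CohB1.tensorMod N L ≅ Coh.structureModule X)
  (hL : PicF.IsInvertible L) (hN : PicF.IsInvertible N)

include e hL hN in
/-- Powers beyond the dimension of a module generated by sections are normally generated. -/
theorem isNormGen_pow (k : Type u) [Field k] [X.Over (Spec (CommRingCat.of k))]
    (r : ℕ) (σ : ℕ → Γ(L, ⊤)) (hσ : ∀ x : X, ∃ i < r, x ∈ gloc (σ i)) (g : ℕ)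
    (hvan : ∀ (n j : ℕ) (b : ℤ), 1 ≤ j → (1 ≤ ((g + 1 : ℕ) : ℤ) * n + b ∨ g < j) →
      Subsingleton (Coh.HH X (CohB1.tensorMod (CohB1.tensorPow (CohB1.tensorPow L (g + 1)) n)
        (zG L N b)) j)) :
    Groth.FibreVA.NormalGen.IsNormGen (CohB1.tensorPow L (g + 1)) := by
  intro n hn
  let A := CohB1.tensorPow (CohB1.tensorPow L (g + 1)) n
  have hA : PicF.IsInvertible A := isInvertible_tensorPow (isInvertible_tensorPow hL _) _
  let op : ∀ (_ : ℕ) (a b : ℤ), b = a + 1 →
      (CohB1.tensorMod A (zG L N a) ⟶ CohB1.tensorMod A (zG L N b)) :=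
    fun t a b h => KoszTw.tensorMap (𝟙 A) (zop e hL hN σ t a b h)
  have hcomp : ∀ {P Q R : X.Modules} (f : P ⟶ Q) (f' : Q ⟶ R),
      KoszTw.tensorMap (𝟙 A) (f ≫ f') = KoszTw.tensorMap (𝟙 A) f ≫ KoszTw.tensorMap (𝟙 A) f' :=
    fun f f' => tensor_hom_ext fun W a b => by
      simp only [Scheme.Modules.Hom.comp_app, ConcreteCategory.comp_apply, tensorMap_app_tmulSec]
      rfl
  suffices H : ∀ a : ℕ, a ≤ g + 1 → ∀ z : Γ(CohB1.tensorMod A (CohB1.tensorPow L a), ⊤),
      z ∈ AddSubgroup.closure {t | ∃ (m : Γ(A, ⊤)) (s : Γ(CohB1.tensorPow L a, ⊤)), t = tmulSec m s} from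
    eq_top_iff.2 fun z _ => H (g + 1) le_rfl z
  intro a
  induction a with
  | zero =>
    intro _ z
    let u := SecTwist.unitorR A
    have hinj : Function.Injective (u.hom.app ⊤) := (ConcreteCategory.bijective_of_isIso _).1
    refine AddSubgroup.subset_closure ⟨u.hom.app ⊤ z, oneSec X ⊤, hinj ?_⟩
    exact (one_smul Γ(X, ⊤) _).symm.trans (SecTwist.unitorR_tmul A ⊤ _ 1).symm
  | succ a ih =>
    intro ha z
    refine exists_sum_of_kosz' (G := fun b => CohB1.tensorMod A (zG L N b)) op r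
      (fun t t' a b b' c hab hab' hbc hbc' => by
        simp only [op, ← hcomp]
        rw [zop_comm e hL hN σ t t' a b b' c hab hab' hbc hbc'])
      (fun x => by
        obtain ⟨i, hi, h⟩ := zop_iso e hL hN σ r hσ x
        exact ⟨i, hi, fun a b hab => bijective_stalk_idTensor hA _ x (h a b hab)⟩)
      k ((a + 1 : ℕ) : ℤ) (fun j hj _ => hvan n j _ hj ?_)
      (fun w => w ∈ AddSubgroup.closure {t | ∃ (m : Γ(A, ⊤)) (s : Γ(CohB1.tensorPow L (a + 1), ⊤)),
        t = tmulSec m s})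
      (AddSubgroup.zero_mem _) (fun u v => AddSubgroup.add_mem _) ?_ z
    · rcases Nat.lt_or_ge g j with h | h
      · exact Or.inr h
      · refine Or.inl ?_
        have : (g + 1) * 1 ≤ (g + 1) * n := Nat.mul_le_mul_left _ hn
        push_cast at *
        nlinarith
    · intro t _
      suffices P : ∀ (b : ℤ) (hb : ((a + 1 : ℕ) : ℤ) = b + 1) (v : Γ(CohB1.tensorMod A (zG L N b), ⊤)),
          (op t b _ hb).app ⊤ v ∈ AddSubgroup.closure
            {w | ∃ (m : Γ(A, ⊤)) (s : Γ(CohB1.tensorPow L (a + 1), ⊤)), w = tmulSec m s} from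
        fun v => P _ _ v
      intro b hb v
      obtain rfl : b = (a : ℤ) := by omega
      have hv := ih (by omega) v
      induction hv using AddSubgroup.closure_induction with
      | mem w hw =>
        obtain ⟨m, s, rfl⟩ := hw
        exact AddSubgroup.subset_closure ⟨m, (zop e hL hN σ t a _ hb).app ⊤ s,
          tensorMap_app_tmulSec (𝟙 A) _ ⊤ m s⟩
      | zero => rw [map_zero]; exact AddSubgroup.zero_mem _
      | add u w _ _ hu hw =>
        exact (map_add ((op t a _ hb).app ⊤).hom u w).symm ▸ AddSubgroup.add_mem _ hu hw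
      | neg u _ hu =>
        exact (map_neg ((op t a _ hb).app ⊤).hom u).symm ▸ AddSubgroup.neg_mem _ hu

end Groth.AbVarTate.Bounded
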